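import Mathlib
import Cfsg.Agent.H84.Psl3Stmt

set_option autoImplicit false

/-!
helper73: piece [M3d] of S5318: being quasi-dihedral / wreathed is invariant under isomorphism.
-/

namespace Cfsg.Agent.Lib.Helper73.Psl3M3d

universe u

theorem main : Cfsg.Agent.H84.Psl3Stmt.TypeIso.{u} := by
  intro S P _ _ ⟨e⟩
  refine ⟨?_, ?_⟩
  · rintro ⟨n, hn, hcard, x, y, hx, hy, hxy⟩
    refine ⟨n, hn, ?_, e.symm x, e.symm y, ?_, ?_, ?_⟩
    · rw [Nat.card_congr e.toEquiv, hcard]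
    · rw [MulEquiv.orderOf_eq, hx]
    · rw [MulEquiv.orderOf_eq, hy]
    · rw [← map_inv, ← map_mul, ← map_mul, hxy, map_pow]
  · rintro ⟨n, hn, hcard, x, y, z, hx, hxy, hinf, hz, hzx⟩
    refine ⟨n, hn, ?_, e.symm x, e.symm y, e.symm z, ?_, ?_, ?_, ?_, ?_⟩
    · rw [Nat.card_congr e.toEquiv, hcard]
    · rw [MulEquiv.orderOf_eq, hx]
    · rw [← map_mul, ← map_mul, hxy]
    · rw [Subgroup.eq_bot_iff_forall]
      intro w hw
      obtain ⟨h1, h2⟩ := Subgroup.mem_inf.mp hw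
      obtain ⟨i, hi⟩ := Subgroup.mem_zpowers_iff.1 h1
      obtain ⟨j, hj⟩ := Subgroup.mem_zpowers_iff.1 h2
      have h3 : e w ∈ Subgroup.zpowers x ⊓ Subgroup.zpowers y := by
        refine Subgroup.mem_inf.mpr ⟨?_, ?_⟩
        · rw [← hi, map_zpow, MulEquiv.apply_symm_apply]
          exact Subgroup.zpow_mem _ (Subgroup.mem_zpowers x) i
        · rw [← hj, map_zpow, MulEquiv.apply_symm_apply]
          exact Subgroup.zpow_mem _ (Subgroup.mem_zpowers y) j
      rw [hinf, Subgroup.mem_bot] at h3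
      have := congrArg e.symm h3
      rwa [MulEquiv.symm_apply_apply, map_one] at this
    · rw [MulEquiv.orderOf_eq, hz]
    · rw [← map_inv, ← map_mul, ← map_mul, hzx]

end Cfsg.Agent.Lib.Helper73.Psl3M3d
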