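import Mathlib
import Cfsg.Agent.H84.Psl3Stmt

set_option autoImplicit false

/-!
helper73: piece [QS] of S5318: a nontrivial subgroup of a quasi-dihedral group closed under
"all elements of order 2 (resp. 4) as soon as one" is everything.
-/

namespace Cfsg.Agent.Lib.Helper73.Psl3QS

universe u

theorem qd_closed {S : Type u} [Group S] (hS : Cfsg.IsQuasiDihedral S) (T : Subgroup S)
    (hT : T ≠ ⊥)
    (h2 : ∀ t ∈ T, ∀ s : S, orderOf t = 2 → orderOf s = 2 → s ∈ T)
    (h4 : ∀ t ∈ T, ∀ s : S, orderOf t = 4 → orderOf s = 4 → s ∈ T) : T = ⊤ := by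
  obtain ⟨n, hn, hcard, x, y, hx, hy, hxy⟩ := hS
  have hfin : Finite S := Nat.finite_of_card_ne_zero (by rw [hcard]; positivity)
  -- an involution in T
  obtain ⟨t, htT, ht1⟩ : ∃ t ∈ T, t ≠ 1 := by
    by_contra hcon
    apply hT
    rw [Subgroup.eq_bot_iff_forall]
    intro t ht
    by_contra h1
    exact hcon ⟨t, ht, h1⟩
  have hdvd : orderOf t ∣ 2 ^ (n + 1) := hcard ▸ orderOf_dvd_natCard t
  obtain ⟨k, hk, hkeq⟩ := (Nat.dvd_prime_pow Nat.prime_two).1 hdvd
  have hk0 : k ≠ 0 := by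
    rintro rfl
    rw [pow_zero, orderOf_eq_one_iff] at hkeq
    exact ht1 hkeq
  have ht0 : orderOf (t ^ 2 ^ (k - 1)) = 2 := by
    apply orderOf_eq_prime
    · rw [← pow_mul, ← pow_succ, Nat.sub_add_cancel (Nat.pos_of_ne_zero hk0), ← hkeq]
      exact pow_orderOf_eq_one t
    · intro h
      have h' := orderOf_dvd_of_pow_eq_one h
      rw [hkeq] at h'
      have := (Nat.pow_dvd_pow_iff_le_right (by norm_num : 1 < 2)).1 h'
      omega
  have ht0T : t ^ 2 ^ (k - 1) ∈ T := T.pow_mem htT _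
  -- basic relations
  have hy2 : y * y = 1 := by
    have := pow_orderOf_eq_one y
    rw [hy, sq] at this
    exact this
  have hyinv : y⁻¹ = y := inv_eq_of_mul_eq_one_right hy2
  have hc1 : 1 ≤ 2 ^ (n - 1) := Nat.one_le_two_pow
  have hxn : x ^ 2 ^ n = 1 := by rw [← hx]; exact pow_orderOf_eq_one x
  have key : ∀ i : ℕ, (x ^ i * y) ^ 2 = x ^ (i * 2 ^ (n - 1)) := by
    intro i
    have h1 : y * x ^ i * y⁻¹ = x ^ ((2 ^ (n - 1) - 1) * i) := by
      rw [← conj_pow, hxy, ← pow_mul]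
    calc (x ^ i * y) ^ 2 = x ^ i * (y * x ^ i * y⁻¹) * (y * y) := by rw [sq]; group
      _ = x ^ i * x ^ ((2 ^ (n - 1) - 1) * i) := by rw [h1, hy2, mul_one]
      _ = x ^ (i * 2 ^ (n - 1)) := by
        rw [← pow_add]
        congr 1
        have : (2 ^ (n - 1) - 1) * i = 2 ^ (n - 1) * i - i := by
          rw [Nat.sub_mul, one_mul]
        have h2 : i ≤ 2 ^ (n - 1) * i := Nat.le_mul_of_pos_left i (by positivity)
        rw [this, mul_comm i]
        omega
  have hynot : y ∉ Subgroup.zpowers x := by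
    intro hmem
    obtain ⟨j, rfl⟩ := Subgroup.mem_zpowers_iff.1 hmem
    have h1 : x ^ j * x * (x ^ j)⁻¹ = x := by group
    rw [h1] at hxy
    have h2 : x ^ 1 = x ^ (2 ^ (n - 1) - 1) := by rw [pow_one]; exact hxy
    rw [pow_eq_pow_iff_modEq, hx] at h2
    have hlt : 2 ^ (n - 1) - 1 < 2 ^ n := by
      have : 2 ^ (n - 1) ≤ 2 ^ n := Nat.pow_le_pow_right (by norm_num) (by omega)
      omega
    have h3 := Nat.ModEq.eq_of_lt_of_lt h2 (Nat.one_lt_two_pow (by omega)) hlt
    have h4' : 2 ^ 2 ≤ 2 ^ (n - 1) := Nat.pow_le_pow_right (by norm_num) (by omega)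
    omega
  have hyT : y ∈ T := h2 _ ht0T y ht0 hy
  -- x^2 * y is an involution
  have hx2y : orderOf (x ^ 2 * y) = 2 := by
    apply orderOf_eq_prime
    · rw [key 2, ← pow_succ', Nat.sub_add_cancel (by omega)]
      exact hxn
    · intro h
      apply hynot
      have : y = (x ^ 2)⁻¹ := eq_inv_of_mul_eq_one_right h
      rw [this]
      exact (Subgroup.zpowers x).inv_mem ((Subgroup.zpowers x).pow_mem (Subgroup.mem_zpowers x) 2)
  have hx2T : x ^ 2 ∈ T := by
    have h1 : x ^ 2 * y ∈ T := h2 _ ht0T _ ht0 hx2y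
    have h3 : x ^ 2 = (x ^ 2 * y) * y⁻¹ := by group
    rw [h3]
    exact T.mul_mem h1 (T.inv_mem hyT)
  -- an element of order 4 in T
  have hn2 : 2 * 2 ^ (n - 3) = 2 ^ (n - 2) := by
    rw [← pow_succ']
    congr 1
    omega
  have huT : x ^ 2 ^ (n - 2) ∈ T := by
    have h1 : x ^ 2 ^ (n - 2) = (x ^ 2) ^ 2 ^ (n - 3) := by
      rw [← pow_mul, hn2]
    rw [h1]
    exact T.pow_mem hx2T _
  have hxne : x ^ 2 ^ (n - 1) ≠ 1 := by
    intro h
    have h' := orderOf_dvd_of_pow_eq_one h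
    rw [hx] at h'
    have := (Nat.pow_dvd_pow_iff_le_right (by norm_num : 1 < 2)).1 h'
    omega
  have hu4 : orderOf (x ^ 2 ^ (n - 2)) = 4 := by
    have h1 : orderOf (x ^ 2 ^ (n - 2)) = 2 ^ (1 + 1) := by
      apply orderOf_eq_prime_pow
      · rw [pow_one, ← pow_mul, ← pow_succ]
        have : n - 2 + 1 = n - 1 := by omega
        rw [this]
        exact hxne
      · rw [← pow_mul, ← pow_add]
        have : n - 2 + (1 + 1) = n := by omega
        rw [this]
        exact hxn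
    rw [h1]; norm_num
  have hxy4 : orderOf (x * y) = 4 := by
    have hk1 := key 1
    rw [pow_one, one_mul] at hk1
    have h1 : orderOf (x * y) = 2 ^ (1 + 1) := by
      apply orderOf_eq_prime_pow
      · rw [pow_one, hk1]
        exact hxne
      · have : (x * y) ^ 2 ^ (1 + 1) = ((x * y) ^ 2) ^ 2 := by
          rw [← pow_mul]; norm_num
        rw [this, hk1, ← pow_mul, ← pow_succ, Nat.sub_add_cancel (by omega)]
        exact hxn
    rw [h1]; norm_num
  have hxT : x ∈ T := by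
    have h1 : x * y ∈ T := h4 _ huT _ hu4 hxy4
    have h3 : x = (x * y) * y⁻¹ := by group
    rw [h3]
    exact T.mul_mem h1 (T.inv_mem hyT)
  -- counting
  have hle : Subgroup.zpowers x ≤ T := by
    rw [Subgroup.zpowers_le]
    exact hxT
  have hcz : Nat.card (Subgroup.zpowers x) = 2 ^ n := by
    rw [Nat.card_zpowers, hx]
  have hd1 : 2 ^ n ∣ Nat.card T := hcz ▸ Subgroup.card_dvd_of_le hle
  have hd2 : Nat.card T ∣ 2 ^ (n + 1) := hcard ▸ Subgroup.card_subgroup_dvd_card T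
  obtain ⟨m, hm, hmeq⟩ := (Nat.dvd_prime_pow Nat.prime_two).1 hd2
  rw [hmeq] at hd1
  have hnm := (Nat.pow_dvd_pow_iff_le_right (by norm_num : 1 < 2)).1 hd1
  rcases Nat.lt_or_ge n m with h | h
  · have : m = n + 1 := by omega
    apply Subgroup.eq_top_of_card_eq
    rw [hmeq, hcard, this]
  · have : m = n := by omega
    exfalso
    apply hynot
    have heq : Subgroup.zpowers x = T :=
      Subgroup.eq_of_le_of_card_ge hle (by rw [hcz, hmeq, this])
    rw [heq]
    exact hyT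

theorem main : Cfsg.Agent.H84.Psl3Stmt.QdClosed.{u} := by
  intro G _ S T hS hTS hT h2 h4
  apply le_antisymm hTS
  have h := qd_closed hS (T.subgroupOf S) ?_ ?_ ?_
  · exact Subgroup.subgroupOf_eq_top.mp h
  · intro hbot
    apply hT
    rw [Subgroup.eq_bot_iff_forall]
    intro t ht
    have h1 : (⟨t, hTS ht⟩ : ↥S) ∈ T.subgroupOf S := Subgroup.mem_subgroupOf.mpr ht
    rw [hbot, Subgroup.mem_bot] at h1
    exact congrArg Subtype.val h1
  · intro t ht s hot hos
    rw [Subgroup.mem_subgroupOf] at ht ⊢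
    exact h2 _ ht _ s.2 (by rw [Subgroup.orderOf_coe]; exact hot)
      (by rw [Subgroup.orderOf_coe]; exact hos)
  · intro t ht s hot hos
    rw [Subgroup.mem_subgroupOf] at ht ⊢
    exact h4 _ ht _ s.2 (by rw [Subgroup.orderOf_coe]; exact hot)
      (by rw [Subgroup.orderOf_coe]; exact hos)

end Cfsg.Agent.Lib.Helper73.Psl3QS
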