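import Mathlib
import Cfsg.Agent.Lib.Helper70.FrattiniQuot

/-!
# 2-groups whose commutator subgroup has index 4

* `commHom C x` : for an abelian subgroup `C` normalized by `x`, the homomorphism
  `c ↦ x c x⁻¹ c⁻¹`.
* `commutator_le_of_index_two` : if moreover every element lies in `C` or `C x`, the commutator
  subgroup lies in every subgroup containing all `x c x⁻¹ c⁻¹`.
* `card_commutator_mul_le` : `|G'| * |K| ≤ |C|` for `K ≤ C_C(x)`.
* `exists_index_two_zpowers` : a finite 2-group with `|G : G'| = 4` has a cyclic subgroup of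
  index 2.
* `index_commutator_of_maximal_class` : a group of order `2 ^ n`, `n ≥ 3`, of nilpotency class
  `n - 1` has `|G : G'| = 4`.
-/

set_option autoImplicit false

namespace Cfsg.Agent.Lib.Helper73.MaxClass

open scoped commutatorElement

universe u

/-- A nontrivial normal subgroup of a finite `p`-group meets the centre nontrivially. -/
theorem exists_mem_center_of_normal {G : Type*} [Group G] [Finite G] {p : ℕ} [Fact p.Prime]
    (hG : IsPGroup p G) (N : Subgroup G) [N.Normal] (hN : N ≠ ⊥) :
    ∃ x ∈ N, x ≠ 1 ∧ x ∈ Subgroup.center G := by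
  classical
  have hG' : IsPGroup p (ConjAct G) := hG
  have hNp : IsPGroup p N := hG.to_subgroup N
  have hcard : p ∣ Nat.card N := by
    rcases hNp.card_eq_or_dvd with h | h
    · exfalso
      apply hN
      exact Subgroup.card_eq_one.mp h
    · exact h
  have h1 : (1 : N) ∈ MulAction.fixedPoints (ConjAct G) N := by
    intro g
    exact smul_one g
  obtain ⟨b, hb, hb1⟩ := hG'.exists_fixed_point_of_prime_dvd_card_of_fixed_point N hcard h1
  refine ⟨b, b.2, ?_, ?_⟩
  · intro h
    apply hb1
    exact Subtype.ext h.symm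
  · rw [Subgroup.mem_center_iff]
    intro g
    have := hb (ConjAct.toConjAct g)
    have h2 := congrArg Subtype.val this
    rw [ConjAct.Subgroup.val_conj_smul, ConjAct.toConjAct_smul] at h2
    rw [mul_inv_eq_iff_eq_mul] at h2
    exact h2

theorem comm_of_sq {H : Type*} [Group H] (h : ∀ x : H, x ^ 2 = 1) (a b : H) : a * b = b * a := by
  have ha : a⁻¹ = a := by
    rw [inv_eq_iff_mul_eq_one, ← pow_two]; exact h a
  have hb : b⁻¹ = b := by
    rw [inv_eq_iff_mul_eq_one, ← pow_two]; exact h b
  have hab : (a * b)⁻¹ = a * b := by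
    rw [inv_eq_iff_mul_eq_one, ← pow_two]; exact h (a * b)
  rw [mul_inv_rev, ha, hb] at hab
  exact hab.symm

/-- For an abelian subgroup `C` normalized by `x`, the map `c ↦ x c x⁻¹ c⁻¹` is a
homomorphism. -/
def commHom {G : Type*} [Group G] (C : Subgroup G) (x : G)
    (hab : ∀ c ∈ C, ∀ d ∈ C, c * d = d * c) (hn : ∀ c ∈ C, x * c * x⁻¹ ∈ C) : ↥C →* G where
  toFun c := x * c * x⁻¹ * (c : G)⁻¹
  map_one' := by simp
  map_mul' := by
    intro c d
    have h1 : (x * d * x⁻¹ * (d : G)⁻¹) * (c : G)⁻¹ = (c : G)⁻¹ * (x * d * x⁻¹ * (d : G)⁻¹) :=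
      hab _ (C.mul_mem (hn d d.2) (C.inv_mem d.2)) _ (C.inv_mem c.2)
    show x * ((c * d : ↥C) : G) * x⁻¹ * ((c * d : ↥C) : G)⁻¹ = _
    rw [Subgroup.coe_mul]
    calc x * ((c : G) * d) * x⁻¹ * ((c : G) * d)⁻¹
        = x * c * x⁻¹ * ((x * d * x⁻¹ * (d : G)⁻¹) * (c : G)⁻¹) := by group
      _ = x * c * x⁻¹ * ((c : G)⁻¹ * (x * d * x⁻¹ * (d : G)⁻¹)) := by rw [h1]
      _ = (x * c * x⁻¹ * (c : G)⁻¹) * (x * d * x⁻¹ * (d : G)⁻¹) := by group

theorem commHom_apply {G : Type*} [Group G] (C : Subgroup G) (x : G)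
    (hab : ∀ c ∈ C, ∀ d ∈ C, c * d = d * c) (hn : ∀ c ∈ C, x * c * x⁻¹ ∈ C) (c : ↥C) :
    commHom C x hab hn c = x * c * x⁻¹ * (c : G)⁻¹ := rfl

/-- If `C` is abelian, normalized by `x`, and `G = C ∪ C x`, then the commutator subgroup lies in
any subgroup containing the elements `x c x⁻¹ c⁻¹`, `c ∈ C`. -/
theorem commutator_le_of_index_two {G : Type*} [Group G] (C : Subgroup G) (x : G)
    (hab : ∀ c ∈ C, ∀ d ∈ C, c * d = d * c) (hn : ∀ c ∈ C, x * c * x⁻¹ ∈ C)
    (hcov : ∀ g : G, g ∈ C ∨ g * x⁻¹ ∈ C) (I : Subgroup G)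
    (hI : ∀ c ∈ C, x * c * x⁻¹ * c⁻¹ ∈ I) : commutator G ≤ I := by
  have k1 : ∀ c ∈ C, ∀ d ∈ C, ⁅c, d⁆ ∈ I := by
    intro c hc d hd
    rw [commutatorElement_def, hab c hc d hd]
    have : d * c * c⁻¹ * d⁻¹ = 1 := by group
    rw [this]; exact I.one_mem
  have k2 : ∀ c ∈ C, ∀ d ∈ C, ⁅c * x, d⁆ ∈ I := by
    intro c hc d hd
    have h1 : c * (x * d * x⁻¹) = (x * d * x⁻¹) * c := hab c hc _ (hn d hd)
    have : ⁅c * x, d⁆ = x * d * x⁻¹ * d⁻¹ := by
      rw [commutatorElement_def]
      calc c * x * d * (c * x)⁻¹ * d⁻¹ = (c * (x * d * x⁻¹)) * c⁻¹ * d⁻¹ := by group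
        _ = ((x * d * x⁻¹) * c) * c⁻¹ * d⁻¹ := by rw [h1]
        _ = x * d * x⁻¹ * d⁻¹ := by group
    rw [this]; exact hI d hd
  have k3 : ∀ c ∈ C, ∀ d ∈ C, ⁅c, d * x⁆ ∈ I := by
    intro c hc d hd
    rw [← commutatorElement_inv]
    exact I.inv_mem (k2 d hd c hc)
  have k4 : ∀ c ∈ C, ∀ d ∈ C, ⁅c * x, d * x⁆ ∈ I := by
    intro c hc d hd
    have hdc : d * c⁻¹ ∈ C := C.mul_mem hd (C.inv_mem hc)
    have h1 : c * (x * (d * c⁻¹) * x⁻¹) = (x * (d * c⁻¹) * x⁻¹) * c := hab c hc _ (hn _ hdc)
    have : ⁅c * x, d * x⁆ = x * (d * c⁻¹) * x⁻¹ * (d * c⁻¹)⁻¹ := by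
      rw [commutatorElement_def]
      calc c * x * (d * x) * (c * x)⁻¹ * (d * x)⁻¹ = (c * (x * (d * c⁻¹) * x⁻¹)) * d⁻¹ := by group
        _ = ((x * (d * c⁻¹) * x⁻¹) * c) * d⁻¹ := by rw [h1]
        _ = x * (d * c⁻¹) * x⁻¹ * (d * c⁻¹)⁻¹ := by group
    rw [this]; exact hI _ hdc
  rw [commutator_def, Subgroup.commutator_le]
  intro g₁ _ g₂ _
  have e1 : g₁ = g₁ * x⁻¹ * x := by group
  have e2 : g₂ = g₂ * x⁻¹ * x := by group
  rcases hcov g₁ with h1 | h1 <;> rcases hcov g₂ with h2 | h2
  · exact k1 g₁ h1 g₂ h2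
  · rw [e2]; exact k3 g₁ h1 _ h2
  · rw [e1]; exact k2 _ h1 g₂ h2
  · rw [e1, e2]; exact k4 _ h1 _ h2

/-- `|G'| * |K| ≤ |C|` when `C` is abelian, normalized by `x`, `G = C ∪ C x` and `K ≤ C_C(x)`. -/
theorem card_commutator_mul_le {G : Type*} [Group G] [Finite G] (C : Subgroup G) (x : G)
    (hab : ∀ c ∈ C, ∀ d ∈ C, c * d = d * c) (hn : ∀ c ∈ C, x * c * x⁻¹ ∈ C)
    (hcov : ∀ g : G, g ∈ C ∨ g * x⁻¹ ∈ C) (K : Subgroup G)
    (hK : ∀ k ∈ K, k ∈ C ∧ x * k * x⁻¹ = k) :
    Nat.card (commutator G) * Nat.card K ≤ Nat.card C := by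
  set f := commHom C x hab hn with hf
  have h1 : commutator G ≤ f.range :=
    commutator_le_of_index_two C x hab hn hcov f.range (fun c hc => ⟨⟨c, hc⟩, rfl⟩)
  have h2 : Nat.card (commutator G) ≤ Nat.card f.range := Subgroup.card_le_of_le h1
  have hKC : K ≤ C := fun k hk => (hK k hk).1
  have h3 : K.subgroupOf C ≤ f.ker := by
    intro k hk
    rw [Subgroup.mem_subgroupOf] at hk
    rw [MonoidHom.mem_ker, hf, commHom_apply, (hK k hk).2, mul_inv_cancel]
  have h4 : Nat.card K ≤ Nat.card f.ker := by
    rw [← Nat.card_congr (Subgroup.subgroupOfEquivOfLe hKC).toEquiv]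
    exact Subgroup.card_le_of_le h3
  have h5 := Subgroup.card_eq_card_quotient_mul_card_subgroup f.ker
  rw [Nat.card_congr (QuotientGroup.quotientKerEquivRange f).toEquiv] at h5
  rw [h5]
  exact Nat.mul_le_mul h2 h4

/-- A non-abelian group of order 8 has a cyclic subgroup of index 2. -/
theorem exists_index_two_of_card_eight {G : Type*} [Group G] [Finite G] (h8 : Nat.card G = 8)
    (hc : commutator G ≠ ⊥) : ∃ a : G, (Subgroup.zpowers a).index = 2 := by
  haveI : Fact (Nat.Prime 2) := ⟨Nat.prime_two⟩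
  have hG : IsPGroup 2 G := IsPGroup.of_card (n := 3) (by rw [h8]; norm_num)
  have hnc : ¬ ∀ a b : G, a * b = b * a := by
    intro hcomm
    apply hc
    rw [commutator_def, Subgroup.commutator_eq_bot_iff_le_centralizer]
    intro g _
    rw [Subgroup.mem_centralizer_iff]
    intro h _
    exact hcomm h g
  have hex : ∃ g : G, g ^ 2 ≠ 1 := by
    by_contra hcon
    push Not at hcon
    exact hnc (comm_of_sq hcon)
  obtain ⟨g, hg⟩ := hex
  obtain ⟨j, hj⟩ := (IsPGroup.iff_orderOf.1 hG) g
  have hdvd : orderOf g ∣ 8 := by rw [← h8]; exact orderOf_dvd_natCard g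
  have hj3 : j ≤ 3 := by
    rw [hj] at hdvd
    have : (8 : ℕ) = 2 ^ 3 := by norm_num
    rw [this] at hdvd
    exact (Nat.pow_dvd_pow_iff_le_right (by norm_num)).1 hdvd
  have hj2 : 2 ≤ j := by
    by_contra hlt
    apply hg
    have : orderOf g ∣ 2 := by
      rw [hj]
      have : j ≤ 1 := by omega
      exact pow_dvd_pow 2 this
    exact orderOf_dvd_iff_pow_eq_one.1 this
  have hj' : j = 2 := by
    by_contra hne
    have : j = 3 := by omega
    apply hnc
    haveI : IsCyclic G := isCyclic_of_orderOf_eq_card g (by rw [hj, this, h8]; norm_num)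
    exact isMulCommutative_iff.1 IsCyclic.isMulCommutative
  refine ⟨g, ?_⟩
  have := Subgroup.card_mul_index (Subgroup.zpowers g)
  rw [Nat.card_zpowers, hj, hj', h8] at this
  omega

/-- **Cyclic maximal subgroup.** A finite 2-group whose commutator subgroup has index 4 has a
cyclic subgroup of index 2. -/
theorem exists_index_two_zpowers : ∀ (n : ℕ) (G : Type u) [Group G] [Finite G], Nat.card G = n →
    IsPGroup 2 G → (commutator G).index = 4 → ∃ a : G, (Subgroup.zpowers a).index = 2 := by
  intro n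
  induction n using Nat.strong_induction_on with
  | _ n ih =>
  intro G _ _ hn hG h4
  haveI : Fact (Nat.Prime 2) := ⟨Nat.prime_two⟩
  by_cases hc : commutator G = ⊥
  · rw [hc, Subgroup.index_bot] at h4
    obtain ⟨a, ha⟩ := exists_prime_orderOf_dvd_card' 2 (by rw [h4]; norm_num : 2 ∣ Nat.card G)
    refine ⟨a, ?_⟩
    have := Subgroup.card_mul_index (Subgroup.zpowers a)
    rw [Nat.card_zpowers, ha, h4] at this
    omega
  · obtain ⟨z₀, hz₀c, hz₀1, hz₀Z⟩ := exists_mem_center_of_normal hG (commutator G) hc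
    obtain ⟨z, hzc, hzZ, hz2⟩ : ∃ z ∈ commutator G, z ∈ Subgroup.center G ∧ orderOf z = 2 := by
      obtain ⟨k, hk⟩ := (IsPGroup.iff_orderOf.1 hG) z₀
      have hk0 : k ≠ 0 := by
        rintro rfl
        rw [pow_zero, orderOf_eq_one_iff] at hk
        exact hz₀1 hk
      obtain ⟨j, rfl⟩ := Nat.exists_eq_succ_of_ne_zero hk0
      refine ⟨z₀ ^ (2 ^ j), Subgroup.pow_mem _ hz₀c _, Subgroup.pow_mem _ hz₀Z _, ?_⟩
      have := orderOf_pow_orderOf_div (x := z₀) (n := 2) (by rw [hk]; positivity)
        (by rw [hk]; exact dvd_pow_self 2 (Nat.succ_ne_zero j))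
      rw [hk] at this
      have e : 2 ^ (j + 1) / 2 = 2 ^ j := by rw [pow_succ]; simp
      rwa [e] at this
    have hz2' : z ^ 2 = 1 := by rw [← hz2]; exact pow_orderOf_eq_one z
    obtain ⟨N, hNdef⟩ : ∃ N : Subgroup G, N = Subgroup.zpowers z := ⟨_, rfl⟩
    have hNcen : ∀ m ∈ N, ∀ g : G, g * m = m * g := by
      intro m hm g
      rw [hNdef] at hm
      have : m ∈ Subgroup.center G := (Subgroup.zpowers_le.2 hzZ) hm
      exact Subgroup.mem_center_iff.1 this g
    haveI hNn : N.Normal := ⟨fun m hm g => by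
      have := hNcen m hm g
      rw [this, mul_assoc, mul_inv_cancel, mul_one]; exact hm⟩
    have hNcard : Nat.card N = 2 := by rw [hNdef, Nat.card_zpowers, hz2]
    have hNle : N ≤ commutator G := by rw [hNdef]; exact Subgroup.zpowers_le.2 hzc
    have hNmem : ∀ m ∈ N, m = 1 ∨ m = z := by
      intro m hm
      rw [hNdef] at hm
      obtain ⟨i, rfl⟩ := Subgroup.mem_zpowers_iff.1 hm
      rcases Int.even_or_odd' i with ⟨j, rfl | rfl⟩
      · left; rw [zpow_mul, zpow_ofNat, hz2', one_zpow]
      · right; rw [zpow_add, zpow_mul, zpow_ofNat, hz2', one_zpow, one_mul, zpow_one]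
    have hzN : z ∈ N := by rw [hNdef]; exact Subgroup.mem_zpowers z
    have hQcard : Nat.card (G ⧸ N) * 2 = n := by
      have := Subgroup.card_eq_card_quotient_mul_card_subgroup N
      rw [hNcard, hn] at this; exact this.symm
    have hQP : IsPGroup 2 (G ⧸ N) := hG.to_quotient N
    have hQ4 : (commutator (G ⧸ N)).index = 4 := by
      have hmap : (commutator G).map (QuotientGroup.mk' N) = commutator (G ⧸ N) := by
        rw [commutator_def, commutator_def, Subgroup.map_commutator,
          Subgroup.map_top_of_surjective _ (QuotientGroup.mk'_surjective N)]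
      rw [← hmap, Subgroup.index_map_eq _ (QuotientGroup.mk'_surjective N)
        (by rw [QuotientGroup.ker_mk']; exact hNle)]
      exact h4
    have hlt : Nat.card (G ⧸ N) < n := by
      have := Nat.card_pos (α := G ⧸ N); omega
    obtain ⟨ā, hā⟩ := ih _ hlt (G ⧸ N) rfl hQP hQ4
    obtain ⟨a, rfl⟩ := QuotientGroup.mk_surjective ā
    obtain ⟨C, hCdef⟩ : ∃ C : Subgroup G,
        C = (Subgroup.zpowers (a : G ⧸ N)).comap (QuotientGroup.mk' N) := ⟨_, rfl⟩
    have hCidx : C.index = 2 := by
      rw [hCdef, Subgroup.index_comap_of_surjective _ (QuotientGroup.mk'_surjective N)]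
      exact hā
    have hCdec : ∀ g ∈ C, ∃ i : ℤ, ∃ m ∈ N, g = a ^ i * m := by
      intro g hg
      rw [hCdef, Subgroup.mem_comap, Subgroup.mem_zpowers_iff] at hg
      obtain ⟨i, hi⟩ := hg
      refine ⟨i, (a ^ i)⁻¹ * g, ?_, by group⟩
      have : ((a ^ i : G) : G ⧸ N) = (g : G ⧸ N) := by
        rw [QuotientGroup.mk_zpow]; exact hi
      exact QuotientGroup.eq.1 this
    have hCmem : ∀ (i : ℤ), ∀ m ∈ N, a ^ i * m ∈ C := by
      intro i m hm
      rw [hCdef, Subgroup.mem_comap, Subgroup.mem_zpowers_iff]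
      refine ⟨i, ?_⟩
      have h1 : ((a ^ i : G) : G ⧸ N) = ((a ^ i * m : G) : G ⧸ N) := by
        rw [QuotientGroup.eq]
        have : (a ^ i)⁻¹ * (a ^ i * m) = m := by group
        rw [this]; exact hm
      rw [QuotientGroup.mk_zpow] at h1
      exact h1
    have haC : a ∈ C := by
      have := hCmem 1 1 N.one_mem
      simpa using this
    have hNC : N ≤ C := by
      intro m hm
      have := hCmem 0 m hm
      simpa using this
    have hCab : ∀ c ∈ C, ∀ d ∈ C, c * d = d * c := by
      intro c hc d hd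
      obtain ⟨i, m₁, hm₁, rfl⟩ := hCdec c hc
      obtain ⟨j, m₂, hm₂, rfl⟩ := hCdec d hd
      have cm : ∀ m ∈ N, ∀ g, Commute g m := fun m hm g => hNcen m hm g
      have h1 : Commute (a ^ i) (a ^ j * m₂) :=
        Commute.mul_right ((Commute.refl a).zpow_zpow i j) (cm m₂ hm₂ _)
      have h2 : Commute m₁ (a ^ j * m₂) := (cm m₁ hm₁ _).symm
      exact Commute.mul_left h1 h2
    haveI hCn : C.Normal := Subgroup.normal_of_index_eq_two hCidx
    by_cases hza : z ∈ Subgroup.zpowers a
    · refine ⟨a, ?_⟩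
      have : Subgroup.zpowers a = C := by
        apply le_antisymm (Subgroup.zpowers_le.2 haC)
        intro g hg
        obtain ⟨i, m, hm, rfl⟩ := hCdec g hg
        refine Subgroup.mul_mem _ (Subgroup.zpow_mem _ (Subgroup.mem_zpowers a) i) ?_
        rcases hNmem m hm with h | h
        · rw [h]; exact Subgroup.one_mem _
        · rw [h]; exact hza
      rw [this]; exact hCidx
    · have hord : orderOf (a : G ⧸ N) = orderOf a := by
        rw [orderOf_eq_orderOf_iff]
        intro k
        rw [← QuotientGroup.mk_pow, QuotientGroup.eq_one_iff]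
        constructor
        · intro h
          rcases hNmem _ h with h1 | h1
          · exact h1
          · exfalso
            apply hza
            rw [← h1]
            exact Subgroup.pow_mem _ (Subgroup.mem_zpowers a) k
        · intro h
          rw [h]; exact N.one_mem
      have hcardG : n = 4 * orderOf a := by
        have := Subgroup.card_mul_index (Subgroup.zpowers (a : G ⧸ N))
        rw [hā, Nat.card_zpowers, hord] at this
        omega
      obtain ⟨k, hk⟩ := (IsPGroup.iff_orderOf.1 hG) a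
      have hcomcard : Nat.card (commutator G) * 4 = n := by
        have := Subgroup.card_mul_index (commutator G)
        rw [h4, hn] at this; exact this
      have hCcard : Nat.card C * 2 = n := by
        have := Subgroup.card_mul_index C
        rw [hCidx, hn] at this; exact this
      rcases Nat.lt_or_ge k 2 with hk2 | hk2
      · interval_cases k
        · exfalso
          apply hc
          rw [← Subgroup.card_eq_one]
          rw [pow_zero] at hk
          omega
        · rw [pow_one] at hk
          exact exists_index_two_of_card_eight (by rw [hn, hcardG, hk]) hc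
      · exfalso
        obtain ⟨x, hxC⟩ : ∃ x, x ∉ C := by
          by_contra hcon
          push Not at hcon
          have : C = ⊤ := eq_top_iff.2 (fun g _ => hcon g)
          rw [this, Subgroup.index_top] at hCidx
          omega
        have hcov : ∀ g, g ∈ C ∨ g * x⁻¹ ∈ C := by
          intro g
          by_cases hg : g ∈ C
          · exact Or.inl hg
          · right
            rw [Subgroup.mul_mem_iff_of_index_two hCidx]
            constructor
            · intro h; exact absurd h hg
            · intro h; exact absurd (by simpa using C.inv_mem h) hxC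
        have hn' : ∀ c ∈ C, x * c * x⁻¹ ∈ C := fun c hc => hCn.conj_mem c hc x
        obtain ⟨k', rfl⟩ : ∃ k', k = k' + 2 := ⟨k - 2, by omega⟩
        obtain ⟨b, hb⟩ : ∃ b : G, b = a ^ (2 ^ (k' + 1)) := ⟨_, rfl⟩
        have hb2 : b ^ 2 = 1 := by
          rw [hb, ← pow_mul, ← pow_succ, ← hk]; exact pow_orderOf_eq_one a
        have hb1 : b ≠ 1 := by
          intro h
          rw [hb] at h
          have h1 := orderOf_dvd_of_pow_eq_one h
          rw [hk] at h1
          have h2 := Nat.le_of_dvd (by positivity) h1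
          have h3 : 2 ^ (k' + 1) < 2 ^ (k' + 2) := Nat.pow_lt_pow_right (by norm_num) (by omega)
          omega
        have hbz : b ≠ z := by
          intro h
          apply hza
          rw [← h, hb]
          exact Subgroup.pow_mem _ (Subgroup.mem_zpowers a) _
        have hbC : b ∈ C := by rw [hb]; exact C.pow_mem haC _
        have hxb : x * b * x⁻¹ = b := by
          obtain ⟨i, m, hm, hxa⟩ := hCdec _ (hn' a haC)
          have hm2 : m ^ 2 = 1 := by
            rcases hNmem m hm with h | h
            · rw [h, one_pow]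
            · rw [h]; exact hz2'
          have h1 : x * b * x⁻¹ = (x * a * x⁻¹) ^ (2 ^ (k' + 1)) := by rw [hb, conj_pow]
          have h2 : (a ^ i * m) ^ (2 ^ (k' + 1)) = (a ^ i) ^ (2 ^ (k' + 1)) * m ^ (2 ^ (k' + 1)) :=
            Commute.mul_pow (hNcen m hm (a ^ i)) _
          have h3 : m ^ (2 ^ (k' + 1)) = 1 := by
            rw [pow_succ, mul_comm, pow_mul, hm2, one_pow]
          have h4' : (a ^ i) ^ (2 ^ (k' + 1)) = b ^ i := by
            rw [hb, ← zpow_natCast (a ^ i), ← zpow_mul, ← zpow_natCast a, ← zpow_mul, mul_comm]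
          have h5 : x * b * x⁻¹ = b ^ i := by rw [h1, hxa, h2, h3, mul_one, h4']
          rcases Int.even_or_odd' i with ⟨j, rfl | rfl⟩
          · exfalso
            have h6 : b ^ (2 * j) = 1 := by rw [zpow_mul, zpow_ofNat, hb2, one_zpow]
            rw [h6] at h5
            apply hb1
            have : b = x⁻¹ * (x * b * x⁻¹) * x := by group
            rw [this, h5]; group
          · rw [h5, zpow_add, zpow_mul, zpow_ofNat, hb2, one_zpow, one_mul, zpow_one]
        obtain ⟨K, hKdef⟩ : ∃ K : Subgroup G, K = C ⊓ Subgroup.centralizer ({x} : Set G) :=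
          ⟨_, rfl⟩
        have hKmem : ∀ k, k ∈ K ↔ k ∈ C ∧ k * x = x * k := by
          intro k
          rw [hKdef, Subgroup.mem_inf, Subgroup.mem_centralizer_singleton_iff]
        have hK : ∀ k ∈ K, k ∈ C ∧ x * k * x⁻¹ = k := by
          intro k hk'
          obtain ⟨h1, h2⟩ := (hKmem k).1 hk'
          exact ⟨h1, by rw [← h2]; group⟩
        have hle := card_commutator_mul_le C x hCab hn' hcov K hK
        have hNK : N ≤ K := by
          intro m hm
          rw [hKmem]
          exact ⟨hNC hm, (hNcen m hm x).symm⟩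
        have hbK : b ∈ K := by
          rw [hKmem]
          refine ⟨hbC, ?_⟩
          have : x * b = (x * b * x⁻¹) * x := by group
          rw [this, hxb]
        have hbN : b ∉ N := by
          intro h
          rcases hNmem b h with h' | h'
          · exact hb1 h'
          · exact hbz h'
        have hKcard : 4 ≤ Nat.card K := by
          obtain ⟨t, ht⟩ := Subgroup.card_dvd_of_le hNK
          rw [hNcard] at ht
          have ht0 : t ≠ 0 := by
            rintro rfl
            have := Nat.card_pos (α := K)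
            omega
          have ht1 : t ≠ 1 := by
            rintro rfl
            have : K ≤ N := by
              have := Subgroup.eq_of_le_of_card_ge hNK (by rw [ht, hNcard])
              rw [this]
            exact hbN (this hbK)
          have : 2 ≤ t := by omega
          rw [ht]
          omega
        have hpos := Nat.card_pos (α := commutator G)
        nlinarith

/-- A group of order `2 ^ n` (`n ≥ 3`) and nilpotency class `n - 1` has commutator subgroup of
index 4. -/
theorem index_commutator_of_maximal_class {X : Type*} [Group X] [Finite X] (n : ℕ) (hn : 3 ≤ n)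
    (hX : Nat.card X = 2 ^ n) (hc : Group.nilpotencyClass X = n - 1) :
    (commutator X).index = 4 := by
  haveI : Fact (Nat.Prime 2) := ⟨Nat.prime_two⟩
  have hG : IsPGroup 2 X := IsPGroup.of_card hX
  haveI : Group.IsNilpotent X := hG.isNilpotent
  obtain ⟨L, hL⟩ : ∃ L : ℕ → Subgroup X, L = fun i => (⊤ : Subgroup X).lowerCentralSeries i :=
    ⟨_, rfl⟩
  have hLbot : ∀ i, L i = ⊥ ↔ n - 1 ≤ i := by
    intro i
    rw [← hc, hL]
    exact Subgroup.lowerCentralSeries_eq_bot_iff_nilpotencyClass_le
  have hLanti : ∀ i, L (i + 1) ≤ L i := by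
    intro i
    rw [hL]
    exact Subgroup.lowerCentralSeries_antitone _ (Nat.le_succ i)
  have hLsucc : ∀ i, L (i + 1) = ⁅L i, ⊤⁆ := by
    intro i
    rw [hL]
    exact Subgroup.lowerCentralSeries_succ _ i
  have hstab : ∀ i, L (i + 1) = L i → ∀ j, L (i + j) = L i := by
    intro i h j
    induction j with
    | zero => rfl
    | succ j ihj =>
      have : L (i + (j + 1)) = ⁅L (i + j), ⊤⁆ := hLsucc (i + j)
      rw [this, ihj, ← hLsucc i, h]
  have hstrict : ∀ i, i < n - 1 → L (i + 1) < L i := by
    intro i hi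
    refine lt_of_le_of_ne (hLanti i) ?_
    intro h
    have h1 := hstab i h (n - 1 - i)
    have h2 : i + (n - 1 - i) = n - 1 := by omega
    rw [h2] at h1
    have h3 : L (n - 1) = ⊥ := (hLbot _).2 le_rfl
    have h4 : L i = ⊥ := by rw [← h1, h3]
    have := (hLbot i).1 h4
    omega
  have hdouble : ∀ i, i < n - 1 → 2 * Nat.card (L (i + 1)) ≤ Nat.card (L i) := by
    intro i hi
    have hlt := hstrict i hi
    obtain ⟨t, ht⟩ := Subgroup.card_dvd_of_le hlt.le
    have ht0 : t ≠ 0 := by
      rintro rfl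
      have := Nat.card_pos (α := L i)
      omega
    have ht1 : t ≠ 1 := by
      rintro rfl
      have := Subgroup.eq_of_le_of_card_ge hlt.le (by rw [ht]; simp)
      exact hlt.ne this
    rw [ht]
    have : 2 ≤ t := by omega
    nlinarith [Nat.card_pos (α := L (i + 1))]
  have hlow : ∀ j, j ≤ n - 1 → 2 ^ j ≤ Nat.card (L (n - 1 - j)) := by
    intro j
    induction j with
    | zero =>
      intro _
      have := Nat.card_pos (α := L (n - 1))
      simp only [pow_zero, Nat.sub_zero]
      omega
    | succ j ihj =>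
      intro hj
      have h1 := ihj (by omega)
      have h2 := hdouble (n - 1 - (j + 1)) (by omega)
      have h3 : n - 1 - (j + 1) + 1 = n - 1 - j := by omega
      rw [h3] at h2
      rw [pow_succ]; omega
  have hL1 : 2 ^ (n - 2) ≤ Nat.card (L 1) := by
    have := hlow (n - 2) (by omega)
    have h3 : n - 1 - (n - 2) = 1 := by omega
    rwa [h3] at this
  have hL1eq : L 1 = commutator X := by
    rw [hL]
    exact Subgroup.top_lowerCentralSeries_one
  have hL0eq : L 0 = ⊤ := by rw [hL]; rfl
  rw [hL1eq] at hL1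
  have hmul := Subgroup.card_mul_index (commutator X)
  rw [hX] at hmul
  have h2n : 2 ^ n = 2 ^ (n - 2) * 4 := by
    have : n = (n - 2) + 2 := by omega
    conv_lhs => rw [this]
    rw [pow_add]
    norm_num
  have hpos : 0 < 2 ^ (n - 2) := by positivity
  have hidx_le : (commutator X).index ≤ 4 := by
    by_contra hgt
    push Not at hgt
    have : 2 ^ (n - 2) * 5 ≤ 2 ^ n := by
      calc 2 ^ (n - 2) * 5 ≤ Nat.card (commutator X) * (commutator X).index :=
            Nat.mul_le_mul hL1 hgt
        _ = 2 ^ n := hmul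
    omega
  have hdvd : (commutator X).index ∣ 2 ^ n := ⟨_, by rw [← hmul, mul_comm]⟩
  obtain ⟨e, he, hidx⟩ := (Nat.dvd_prime_pow Nat.prime_two).1 hdvd
  have he2 : e ≤ 2 := by
    by_contra h
    push Not at h
    have : 2 ^ 3 ≤ 2 ^ e := Nat.pow_le_pow_right (by norm_num) h
    rw [hidx] at hidx_le
    omega
  have he0 : e ≠ 0 := by
    rintro rfl
    rw [pow_zero, Subgroup.index_eq_one] at hidx
    have := hstrict 0 (by omega)
    rw [zero_add, hL1eq, hidx, hL0eq] at this
    exact lt_irrefl _ this
  have he1 : e ≠ 1 := by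
    rintro rfl
    rw [pow_one] at hidx
    obtain ⟨x, hx⟩ : ∃ x, x ∉ commutator X := by
      by_contra hcon
      push Not at hcon
      have : commutator X = ⊤ := eq_top_iff.2 (fun g _ => hcon g)
      rw [this, Subgroup.index_top] at hidx
      omega
    have hsup : Subgroup.zpowers x ⊔ commutator X = ⊤ := by
      have hle : commutator X ≤ Subgroup.zpowers x ⊔ commutator X := le_sup_right
      have hidx' := Subgroup.relIndex_mul_index hle
      rw [hidx] at hidx'
      have hrel : (commutator X).relIndex (Subgroup.zpowers x ⊔ commutator X) ≠ 1 := by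
        intro h
        rw [Subgroup.relIndex_eq_one] at h
        exact hx (h (Subgroup.mem_sup_left (Subgroup.mem_zpowers x)))
      have : (Subgroup.zpowers x ⊔ commutator X).index = 1 := by
        rcases (Nat.dvd_prime Nat.prime_two).1 ⟨_, hidx'.symm⟩ with h | h
        · exact absurd h hrel
        · rw [h] at hidx'
          omega
      exact Subgroup.index_eq_one.1 this
    have hfr : Subgroup.zpowers x ⊔ frattini X = ⊤ := by
      apply eq_top_iff.2
      rw [← hsup]
      exact sup_le_sup_left (Cfsg.Agent.Lib.Helper70.FrattiniQuot.commutator_le_frattini hG) _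
    have htop := frattini_nongenerating hfr
    have hcomm : ∀ a b : X, a * b = b * a := by
      intro a b
      have ha : a ∈ Subgroup.zpowers x := by rw [htop]; trivial
      have hb : b ∈ Subgroup.zpowers x := by rw [htop]; trivial
      obtain ⟨i, rfl⟩ := Subgroup.mem_zpowers_iff.1 ha
      obtain ⟨j, rfl⟩ := Subgroup.mem_zpowers_iff.1 hb
      exact ((Commute.refl x).zpow_zpow i j).eq
    have hbot : commutator X = ⊥ := by
      rw [commutator_def, Subgroup.commutator_eq_bot_iff_le_centralizer]
      intro g _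
      rw [Subgroup.mem_centralizer_iff]
      intro h _
      exact hcomm h g
    rw [hbot, Subgroup.index_bot, hX] at hidx
    have : 2 ^ 3 ≤ 2 ^ n := Nat.pow_le_pow_right (by norm_num) hn
    omega
  have : e = 2 := by omega
  rw [hidx, this]
  norm_num

end Cfsg.Agent.Lib.Helper73.MaxClass
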