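import Mathlib
import Cfsg.Prelude.Def_OddOrderLocal
import Cfsg.Agent.Lib.Helper54.S68Stmt

set_option autoImplicit false

/-!
# S1434 (BG 14.7(c),(e) under the S1367/S1368 hypotheses): statements of the pieces (helper73)

Setting: helper54's symmetric `Pair M K Ms Ks` (`Cfsg.Agent.Lib.Helper54.S68Stmt`): `M`, `Ms`
maximal, `K` Hall `κ(M)` in `M`, `Ks` Hall `κ(Ms)` in `Ms`, `Ks = C_{M_σ}(K)`, `K = C_{Ms_σ}(Ks)`,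
both nontrivial; `Zhat K Ks = K Ks ∖ (K ∪ Ks)`.  S1368 gives `M ∩ Ms = K Ks` and `K Ks` cyclic.

Landed tools: the S1368 pieces (`S68Stmt.{SDisj, Cent, Fus, TI, CardZ, ...}` with their `main`s),
`Cfsg.Agent.S1354.result`, `S1352.result`, `S1365.result`, `S1425.result`, `S1350.result`,
`Cfsg.Agent.Lib.Helper63.S53TAU1.{main, compl_N, commutator_le_N, card_N}`,
`Cfsg.Agent.Lib.Helper9.BG11b.{mem_sigma_of_dvd, sigmaCore_le, sigmaCore_normal, cj, mem_cj_iff}`,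
`Cfsg.Agent.Lib.Helper31.SigBasic.mem_sup_of_le_normalizer`,
`Cfsg.Agent.Lib.Helper31.InvSylow.exists_invariant_sylow`,
`Cfsg.Agent.Lib.Helper23.TypeP.card_of_isComplIn`,
`Cfsg.Agent.Lib.Helper90.BG14U.uset_of_decomp`.
-/

namespace Cfsg.Agent.Lib.Helper73.S34Stmt

open Cfsg.Agent.Lib.Helper54.S68Stmt

universe u

/-- KAPPATAU: `κ(M) = τ₁(M)` for a standard factorisation with `K ≠ 1`.
(`⊆`: `q ∈ κ(M)` divides `|M| = |K| · |M : K|` and not `|M : K|` (Hall), so `q ∣ |K|`, and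
`S53TAU1.main` gives `q ∈ τ₁(M)`.  `⊇`: `q ∈ τ₁(M)` divides `|M| = |K| · |M_σ ⊔ U|`
(`S53TAU1.card_N`: `|M_σ ⊔ U| = K.relIndex M`), and `M_σ ⊔ U = [M, M]` (S1365, `sup_comm`), whose
order `q` does not divide; so `q ∣ |K|`, and `K` is a `κ(M)`-group.) -/
def KappaTau : Prop :=
  ∀ {G : Type u} [Group G] [Finite G], Cfsg.IsMinSimpleOddOrder G →
  ∀ (M K U : Subgroup G), IsCoatom M → Cfsg.IsSigmaDecomposition M K U → K ≠ ⊥ →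
    Cfsg.kappa M = Cfsg.tau1 M

/-- SIGL2 (= BG 14.2(f)): a `σ(M)`-subgroup `Y` of `G` meeting `Ks` nontrivially lies in `M_σ`.
(`Y ≠ 1`; S1425: `g Y g⁻¹ ≤ M_σ` for some `g`; `1 ≠ y ∈ Y ∩ Ks`: `g y g⁻¹ ∈ M`, so `g ∈ M`
(FUS); `M_σ` is normal in `M` (`sigmaCore_normal`), so `Y ≤ g⁻¹ M_σ g = M_σ`.) -/
def SigL2 : Prop :=
  ∀ {G : Type u} [Group G] [Finite G], Cfsg.IsMinSimpleOddOrder G →
  ∀ (M K Ms Ks : Subgroup G), Pair M K Ms Ks →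
  ∀ Y : Subgroup G, (∀ p : ℕ, p.Prime → p ∣ Nat.card Y → p ∈ Cfsg.sigma M) → Y ⊓ Ks ≠ ⊥ →
    Y ≤ Cfsg.sigmaCore M

/-- USIG: no prime of `σ(M)` divides `|Us|` for a standard factorisation `Ms = Ks Us Ms_σ`.
(Suppose `p ∈ σ(M)`, `p ∣ |Us|`.  `y ∈ Ks` of prime order `t` (Cauchy, `Ks ≠ 1`); `t ∈ κ(Ms)`,
so `t ∤ Ks.relIndex Ms = |Ms_σ ⊔ Us|` (`S53TAU1.card_N` for `Ms`), so `t ∤ |Us|`.  `Ks`
normalizes `Us`, so `InvSylow.exists_invariant_sylow (A := zpowers y) (K := Us)` gives a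
`y`-invariant Sylow `p`-subgroup `P₁ ≠ 1` of `Us`.  `Y := P₁ ⊔ zpowers y` has order dividing
`|P₁| · t` (every element is `a * b`, `mem_sup_of_le_normalizer`), a `σ(M)`-group
(`t ∈ σ(M)` as `y ∈ Ks ≤ M_σ`), and `y ∈ Y ∩ Ks`.  SIGL2: `Y ≤ M_σ ≤ M`.  So
`P₁ ≤ M ∩ Ms = K ⊔ Ks ≤ Ks ⊔ Ms_σ` (`K ≤ Ms_σ`), but `Us ⊓ (Ks ⊔ Ms_σ) = ⊥`
(`IsSigmaDecomposition.compl`): `P₁ = 1`, contradiction.) -/
def USig : Prop :=
  ∀ {G : Type u} [Group G] [Finite G], Cfsg.IsMinSimpleOddOrder G →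
  ∀ (M K Ms Ks Us : Subgroup G), Pair M K Ms Ks → Cfsg.IsSigmaDecomposition Ms Ks Us →
    M ⊓ Ms = K ⊔ Ks → ∀ p : ℕ, p.Prime → p ∈ Cfsg.sigma M → ¬ p ∣ Nat.card Us

/-- HALLSIG: `Ks` is a Hall `σ(M)`-subgroup of `Ms`.
(`Ks ≤ Ms`; `Ks ≤ M_σ`, so its primes are in `σ(M)` (`mem_sigma_of_dvd`).  S1352 for
`(Ms, Ks)` gives `Us`; `Ks.relIndex Ms = |Ms_σ ⊔ Us|` (`S53TAU1.card_N`), which divides
`|Ms_σ| · |Us|` (elements are products, `mem_sup_of_le_normalizer`; or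
`|Ms| = |Ks ⊔ Us| · |Ms_σ|` by `BG14U.uset_of_decomp` + `TypeP.card_of_isComplIn` and
`|Ks ⊔ Us| = |Us| · |Ks|`).  A prime `p ∈ σ(M)` does not divide `|Ms_σ|` (SDISJ) nor `|Us|`
(USIG).) -/
def HallSig : Prop :=
  ∀ {G : Type u} [Group G] [Finite G], Cfsg.IsMinSimpleOddOrder G →
  ∀ (M K Ms Ks : Subgroup G), Pair M K Ms Ks → IsCyclic Ks → M ⊓ Ms = K ⊔ Ks →
    Cfsg.IsPiHallOf (Cfsg.sigma M) Ks Ms

/-- CENTS: `C_M(x) = C_{Ms}(y) = C_G(x y) = K Ks` for `1 ≠ x ∈ K`, `1 ≠ y ∈ Ks`.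
(S1354 for `(M, K)` (with `eKs`) and for `(Ms, Ks)` (with `eK`, `sup_comm`).  `C_G(x y)`:
`⊇` since `K`, `Ks` are abelian (cyclic) and commute elementwise (`Ks ≤ C(K)`), so both lie in
`C(x y)`.  `⊆`: `|K|`, `|Ks|` are coprime (`Ks ≤ M_σ`, primes of `|K|` are in `κ(M)`, outside
`σ(M)`), `x y = y x`; `(x y) ^ |Ks| = x ^ |Ks|` and `(x y) ^ |K| = y ^ |K|` generate `⟨x⟩`,
`⟨y⟩`, so `c ∈ C(x y)` commutes with `x` and `y`; `C_G(y) ≤ M` (CENT); so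
`c ∈ M ∩ C(x) = K Ks`.) -/
def Cents : Prop :=
  ∀ {G : Type u} [Group G] [Finite G], Cfsg.IsMinSimpleOddOrder G →
  ∀ (M K Ms Ks : Subgroup G), Pair M K Ms Ks → IsCyclic K → IsCyclic Ks →
  ∀ x ∈ K, x ≠ 1 → ∀ y ∈ Ks, y ≠ 1 →
    M ⊓ Subgroup.centralizer ({x} : Set G) = K ⊔ Ks ∧
    Ms ⊓ Subgroup.centralizer ({y} : Set G) = K ⊔ Ks ∧
    Subgroup.centralizer ({x * y} : Set G) = K ⊔ Ks

/-- ZOUT: `Zhat` meets no conjugate `g M g⁻¹`, `g ∉ M`.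
(`z = k s`, `k ∈ K`, `s ∈ Ks` commuting (`mem_sup_of_le_normalizer`), `s ≠ 1` as `z ∉ K`.
`x := z ^ |K| = s ^ |K| ∈ Ks`, `x ≠ 1` (`orderOf s` divides `|M_σ|`, coprime to `|K|`).  If
`z = g m g⁻¹`, `m ∈ M`, then `g⁻¹ x g = m ^ |K| ∈ M`, and FUS (with `g⁻¹`) gives `g⁻¹ ∈ M`.) -/
def ZOut : Prop :=
  ∀ {G : Type u} [Group G] [Finite G], Cfsg.IsMinSimpleOddOrder G →
  ∀ (M K Ms Ks : Subgroup G), Pair M K Ms Ks →
  ∀ g : G, g ∉ M → ∀ z ∈ Zhat K Ks, z ∉ M.map (MulAut.conj g).toMonoidHom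

/-- ZCOUNT (pure group theory): if `K ∩ Ks = 1`, `L = K ⊔ Ks` is abelian and `Zhat` is TI with
normalizer `L`, the conjugates of `Zhat` number exactly `(|K||Ks| - |K| - |Ks| + 1) |G| / (|K||Ks|)`.
(`|L| = |K| |Ks|`; `|Zhat| = |L| - |K| - |Ks| + 1`; the map
`(q, z) ↦ q.out * z * q.out⁻¹` on `(G ⧸ L) × Zhat` is injective (TI, and `c z c⁻¹ = z` for
`c ∈ L`) with image the set of conjugates (`g = q.out * c`, `c ∈ L`).  Compare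
`Cfsg.Agent.Lib.Helper11.S68CARDZ.main`, which proves the inequality `≥`.) -/
def ZCount : Prop :=
  ∀ {G : Type u} [Group G] [Finite G] (K Ks : Subgroup G), K ≠ ⊥ → Ks ≠ ⊥ → K ⊓ Ks = ⊥ →
    (∀ a ∈ K ⊔ Ks, ∀ b ∈ K ⊔ Ks, a * b = b * a) →
    (∀ z ∈ Zhat K Ks, ∀ g : G, g * z * g⁻¹ ∈ Zhat K Ks → g ∈ K ⊔ Ks) →
    Nat.card K * Nat.card Ks *
        Set.ncard {a : G | ∃ g : G, ∃ z ∈ Zhat K Ks, a = g * z * g⁻¹} =
      (Nat.card K * Nat.card Ks - Nat.card K - Nat.card Ks + 1) * Nat.card G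

end Cfsg.Agent.Lib.Helper73.S34Stmt
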