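import Mathlib
import Cfsg.Agent.Lib.Helper73.MaxClass
import Cfsg.Agent.Lib.Helper54.Quaternion

/-!
# Structure of 2-groups whose commutator subgroup has index 4

`structure_index_four` : such a group of order at least 8 has an element `a` of order
`2 ^ (j + 2)` generating a subgroup of index 2 and `x ∉ ⟨a⟩` with `x a x⁻¹ ∈ {a⁻¹, b a⁻¹}`,
`x² ∈ {1, b}` and `C_⟨a⟩(x) = {1, b}`, where `b = a ^ (2 ^ (j + 1))` is the involution of `⟨a⟩`.
-/

set_option autoImplicit false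

namespace Cfsg.Agent.Lib.Helper73.MaxClass2

open Cfsg.Agent.Lib.Helper73.MaxClass

theorem structure_index_four {S : Type*} [Group S] [Finite S] (h2 : IsPGroup 2 S)
    (h4 : (commutator S).index = 4) (h8 : 8 ≤ Nat.card S) :
    ∃ (j' : ℕ) (a x : S), orderOf a = 2 ^ (j' + 2) ∧ Nat.card S = 2 * 2 ^ (j' + 2) ∧
      (Subgroup.zpowers a).index = 2 ∧ x ∉ Subgroup.zpowers a ∧
      (x * a * x⁻¹ = a⁻¹ ∨ x * a * x⁻¹ = a ^ (2 ^ (j' + 1)) * a⁻¹) ∧
      (x * x = 1 ∨ x * x = a ^ (2 ^ (j' + 1))) ∧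
      (∀ k ∈ Subgroup.zpowers a, k * x = x * k → k = 1 ∨ k = a ^ (2 ^ (j' + 1))) := by
  haveI : Fact (Nat.Prime 2) := ⟨Nat.prime_two⟩
  obtain ⟨a, ha⟩ := exists_index_two_zpowers _ S rfl h2 h4
  obtain ⟨j, hj⟩ := (IsPGroup.iff_orderOf.1 h2) a
  have hcard : Nat.card S = 2 * 2 ^ j := by
    have := Subgroup.card_mul_index (Subgroup.zpowers a)
    rw [ha, Nat.card_zpowers, hj] at this
    omega
  have hcomcard : Nat.card (commutator S) * 4 = 2 * 2 ^ j := by
    have := Subgroup.card_mul_index (commutator S)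
    rw [h4, hcard] at this
    exact this
  have hj2 : 2 ≤ j := by
    by_contra hlt
    push Not at hlt
    interval_cases j <;> omega
  obtain ⟨j', rfl⟩ : ∃ j', j = j' + 2 := ⟨j - 2, by omega⟩
  have ha0 := ha
  obtain ⟨C, hCdef⟩ : ∃ C : Subgroup S, C = Subgroup.zpowers a := ⟨_, rfl⟩
  rw [← hCdef] at ha
  have haC : a ∈ C := by rw [hCdef]; exact Subgroup.mem_zpowers a
  have hCab : ∀ c ∈ C, ∀ d ∈ C, c * d = d * c := by
    intro c hc d hd
    rw [hCdef] at hc hd
    obtain ⟨i, rfl⟩ := Subgroup.mem_zpowers_iff.1 hc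
    obtain ⟨l, rfl⟩ := Subgroup.mem_zpowers_iff.1 hd
    exact ((Commute.refl a).zpow_zpow i l).eq
  haveI hCn : C.Normal := Subgroup.normal_of_index_eq_two ha
  have hCcard : Nat.card C = 2 ^ (j' + 2) := by rw [hCdef, Nat.card_zpowers, hj]
  obtain ⟨x, hxC⟩ : ∃ x, x ∉ C := by
    by_contra hcon
    push Not at hcon
    have : C = ⊤ := eq_top_iff.2 (fun g _ => hcon g)
    rw [this, Subgroup.index_top] at ha
    omega
  have hcov : ∀ g, g ∈ C ∨ g * x⁻¹ ∈ C := by
    intro g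
    by_cases hg : g ∈ C
    · exact Or.inl hg
    · right
      rw [Subgroup.mul_mem_iff_of_index_two ha]
      constructor
      · intro h; exact absurd h hg
      · intro h; exact absurd (by simpa using C.inv_mem h) hxC
  have hn' : ∀ c ∈ C, x * c * x⁻¹ ∈ C := fun c hc => hCn.conj_mem c hc x
  obtain ⟨K, hKdef⟩ : ∃ K : Subgroup S, K = C ⊓ Subgroup.centralizer ({x} : Set S) :=
    ⟨_, rfl⟩
  have hKmem : ∀ k, k ∈ K ↔ k ∈ C ∧ k * x = x * k := by
    intro k
    rw [hKdef, Subgroup.mem_inf, Subgroup.mem_centralizer_singleton_iff]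
  have hK : ∀ k ∈ K, k ∈ C ∧ x * k * x⁻¹ = k := by
    intro k hk'
    obtain ⟨h1, h2'⟩ := (hKmem k).1 hk'
    exact ⟨h1, by rw [← h2']; group⟩
  have hle := card_commutator_mul_le C x hCab hn' hcov K hK
  rw [hCcard] at hle
  have hKcard : Nat.card K ≤ 2 := by
    have hpos := Nat.card_pos (α := commutator S)
    have h5 : Nat.card (commutator S) * 2 = 2 ^ (j' + 2) := by
      have : 2 * 2 ^ (j' + 2) = (2 ^ (j' + 2)) * 2 := by ring
      omega
    rw [← h5] at hle
    exact Nat.le_of_mul_le_mul_left hle hpos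
  obtain ⟨b, hb⟩ : ∃ b : S, b = a ^ (2 ^ (j' + 1)) := ⟨_, rfl⟩
  have hj2' : orderOf a = 2 * 2 ^ (j' + 1) := by rw [hj]; ring
  have hKelt : ∀ k ∈ K, k = 1 ∨ k = b := by
    intro k hk
    by_cases hk1 : k = 1
    · exact Or.inl hk1
    · right
      have h5 : Nat.card (Subgroup.zpowers k) ≤ Nat.card K :=
        Subgroup.card_le_of_le (Subgroup.zpowers_le.2 hk)
      rw [Nat.card_zpowers] at h5
      have h6 : orderOf k ≠ 1 := fun h => hk1 (orderOf_eq_one_iff.1 h)
      have h7 : 0 < orderOf k := orderOf_pos k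
      have h8' : orderOf k = 2 := by omega
      rw [hb]
      refine Cfsg.Agent.Lib.Helper54.Quaternion.eq_pow_half_of_mem_zpowers hj2' h8' ?_
      rw [← hCdef]
      exact ((hKmem k).1 hk).1
  have hxx : x * x ∈ C := by
    have := Subgroup.sq_mem_of_index_two ha x
    rwa [pow_two] at this
  have hphi : ∀ c ∈ C, x * c * x⁻¹ * c ∈ K := by
    intro c hc
    rw [hKmem]
    refine ⟨C.mul_mem (hn' c hc) hc, ?_⟩
    have e1 : (x * x) * c = c * (x * x) := hCab _ hxx c hc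
    have e2 : c * (x * c * x⁻¹) = (x * c * x⁻¹) * c := hCab c hc _ (hn' c hc)
    calc x * c * x⁻¹ * c * x = x * c * x⁻¹ * (c * (x * x)) * x⁻¹ := by group
      _ = x * c * x⁻¹ * ((x * x) * c) * x⁻¹ := by rw [e1]
      _ = x * (c * (x * c * x⁻¹)) := by group
      _ = x * ((x * c * x⁻¹) * c) := by rw [e2]
      _ = x * (x * c * x⁻¹ * c) := by group
  have hxxK : x * x ∈ K := by
    rw [hKmem]
    exact ⟨hxx, by group⟩
  refine ⟨j', a, x, hj, hcard, ha0, by rw [← hCdef]; exact hxC, ?_, ?_, ?_⟩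
  · rcases hKelt _ (hphi a haC) with hy | hy
    · left; exact eq_inv_of_mul_eq_one_left hy
    · right; rw [← hb]; exact eq_mul_inv_of_mul_eq hy
  · rw [← hb]; exact hKelt _ hxxK
  · intro k hk hkx
    rw [← hb]
    apply hKelt
    rw [hKmem]
    exact ⟨by rw [hCdef]; exact hk, hkx⟩

end Cfsg.Agent.Lib.Helper73.MaxClass2
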